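import Mathlib.RingTheory.Extension.Cotangent.BaseChange
import Mathlib.RingTheory.Etale.Kaehler
import Mathlib.RingTheory.Kaehler.TensorProduct
import Mathlib.Algebra.Category.ModuleCat.ChangeOfRings
import Mathlib.RingTheory.TensorProduct.Free
import Mathlib.RingTheory.Flat.Basic

/-!
# Freeness of `Ω` and `H¹(L)` of an algebra with a shear (algebraic part of homogeneity)

If `C` is a localization of `A ⊗[k] A` in two ways, via `(h, g)` and via `(h, m)`, and `ε : C → A`
satisfies `ε ∘ m = id` and `ε ∘ g` constant, then `Ω[A⁄k]` and `H1Cotangent k A` are free.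
-/

set_option autoImplicit false

universe u

open TensorProduct CategoryTheory

namespace Groth.Agent.H63.Homog.Alg

variable (k : Type u) [CommRing k]

section tensor

variable (S T : Type u) [CommRing S] [CommRing T] [Algebra k S] [Algebra k T]

attribute [local instance] Algebra.TensorProduct.rightAlgebra

/-- flat base change of `H¹(L)`, linearly over the tensor product -/
theorem h1_tensor [Module.Flat k T] :
    Nonempty ((T ⊗[k] S) ⊗[S] Algebra.H1Cotangent k S ≃ₗ[T ⊗[k] S]
      Algebra.H1Cotangent T (T ⊗[k] S)) := by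
  let φ : (T ⊗[k] S) ⊗[S] Algebra.H1Cotangent k S →ₗ[T ⊗[k] S]
      Algebra.H1Cotangent T (T ⊗[k] S) :=
    (Algebra.H1Cotangent.map k T S (T ⊗[k] S)).liftBaseChange (T ⊗[k] S)
  let e := Algebra.tensorH1CotangentOfFlat k S T
  let ψ : T ⊗[k] Algebra.H1Cotangent k S →+ (T ⊗[k] S) ⊗[S] Algebra.H1Cotangent k S :=
    TensorProduct.liftAddHom
      { toFun := fun t =>
          { toFun := fun x => (t ⊗ₜ[k] (1 : S)) ⊗ₜ[S] x
            map_zero' := by simp
            map_add' := fun x y => by simp [tmul_add] }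
        map_zero' := by ext x; simp
        map_add' := fun t t' => by ext x; simp [add_tmul] }
      (fun r t x => by
        show ((r • t) ⊗ₜ[k] (1 : S)) ⊗ₜ[S] x = (t ⊗ₜ[k] (1 : S)) ⊗ₜ[S] (r • x)
        rw [← algebraMap_smul S r x, ← TensorProduct.smul_tmul (R := S)]
        congr 1
        rw [Algebra.smul_def (R := S), Algebra.TensorProduct.right_algebraMap_apply,
          Algebra.TensorProduct.tmul_mul_tmul, one_mul, mul_one, smul_tmul,
          Algebra.algebraMap_eq_smul_one])
  have hψ : Function.Surjective ψ := by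
    intro z
    induction z using TensorProduct.induction_on with
    | zero => exact ⟨0, map_zero ψ⟩
    | add a b ha hb =>
      obtain ⟨a', rfl⟩ := ha
      obtain ⟨b', rfl⟩ := hb
      exact ⟨a' + b', map_add ψ a' b'⟩
    | tmul d x =>
      induction d using TensorProduct.induction_on with
      | zero => exact ⟨0, by simp⟩
      | add a b ha hb =>
        obtain ⟨a', ha⟩ := ha
        obtain ⟨b', hb⟩ := hb
        exact ⟨a' + b', by rw [map_add, ha, hb, add_tmul]⟩
      | tmul t s =>
        refine ⟨t ⊗ₜ (s • x), ?_⟩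
        show (t ⊗ₜ[k] (1 : S)) ⊗ₜ[S] (s • x) = _
        rw [← TensorProduct.smul_tmul, Algebra.smul_def (R := S),
          Algebra.TensorProduct.right_algebraMap_apply, Algebra.TensorProduct.tmul_mul_tmul,
          one_mul, mul_one]
  have hcomp : ∀ z, φ (ψ z) = e z := by
    intro z
    induction z using TensorProduct.induction_on with
    | zero => simp
    | add a b ha hb => rw [map_add, map_add, ha, hb, map_add]
    | tmul t x =>
      show φ ((t ⊗ₜ[k] (1 : S)) ⊗ₜ[S] x) = _
      rw [Algebra.tensorH1CotangentOfFlat_tmul, LinearMap.liftBaseChange_tmul]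
      exact algebraMap_smul (T ⊗[k] S) t _
  refine ⟨LinearEquiv.ofBijective φ ⟨fun a b hab => ?_, fun y => ?_⟩⟩
  · obtain ⟨a, rfl⟩ := hψ a
    obtain ⟨b, rfl⟩ := hψ b
    rw [hcomp, hcomp] at hab
    rw [e.injective hab]
  · exact ⟨ψ (e.symm y), by rw [hcomp, e.apply_symm_apply]⟩

variable (C : Type u) [CommRing C] [Algebra k C] [Algebra T C] [Algebra (T ⊗[k] S) C]
  [IsScalarTower T (T ⊗[k] S) C] [Algebra S C] [IsScalarTower S (T ⊗[k] S) C]

/-- the same after localizing -/
theorem h1_loc [Module.Flat k T] (M : Submonoid (T ⊗[k] S)) [IsLocalization M C] :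
    Nonempty (C ⊗[S] Algebra.H1Cotangent k S ≃ₗ[C] Algebra.H1Cotangent T C) := by
  obtain ⟨e⟩ := h1_tensor k S T
  exact ⟨(AlgebraTensorModule.cancelBaseChange S (T ⊗[k] S) C C _).symm ≪≫ₗ
    AlgebraTensorModule.congr (LinearEquiv.refl C C) e ≪≫ₗ
    Algebra.tensorH1CotangentOfIsLocalization T C M⟩

/-- base change of differentials to a localization of the tensor product -/
theorem kaehler_loc (M : Submonoid (T ⊗[k] S)) [IsLocalization M C] :
    Nonempty (C ⊗[S] Ω[S⁄k] ≃ₗ[C] Ω[C⁄T]) := by
  have : Algebra.FormallyEtale (T ⊗[k] S) C := Algebra.FormallyEtale.of_isLocalization M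
  exact ⟨(AlgebraTensorModule.cancelBaseChange S (T ⊗[k] S) C C _).symm ≪≫ₗ
    AlgebraTensorModule.congr (LinearEquiv.refl C C)
      (KaehlerDifferential.tensorKaehlerEquiv k T S (T ⊗[k] S)) ≪≫ₗ
    KaehlerDifferential.tensorKaehlerEquivOfFormallyEtale T (T ⊗[k] S) C⟩

end tensor

section twist

variable (A C : Type u) [CommRing A] [CommRing C] [Algebra k A] [Algebra k C]
  [instAC : Algebra A C] [IsScalarTower k A C]

/-- `C` is a localization of `A ⊗[k] A` via the structure map on the left and `f` on the right. -/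
def IsShearLoc (f : A →ₐ[k] C) : Prop :=
  ∃ M : Submonoid (A ⊗[k] A), @IsLocalization _ _ M C _
    (Algebra.TensorProduct.lift (IsScalarTower.toAlgHom k A C) f
      (fun _ _ => Commute.all _ _)).toRingHom.toAlgebra

variable {k A C}

theorem h1_twist [Module.Flat k A] {f : A →ₐ[k] C} (hf : IsShearLoc k A C f) :
    Nonempty ((ModuleCat.extendScalars f.toRingHom).obj (ModuleCat.of A (Algebra.H1Cotangent k A)) ≅
      ModuleCat.of C (Algebra.H1Cotangent A C)) := by
  obtain ⟨M, hM⟩ := hf
  let L := Algebra.TensorProduct.lift (IsScalarTower.toAlgHom k A C) f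
    (fun _ _ => Commute.all _ _)
  let aD : Algebra (A ⊗[k] A) C := L.toRingHom.toAlgebra
  have hL : IsScalarTower A (A ⊗[k] A) C := IsScalarTower.of_algebraMap_eq fun a => by
    show algebraMap A C a = L (a ⊗ₜ 1)
    simp [L]
  let bT : Algebra A (A ⊗[k] A) := Algebra.TensorProduct.rightAlgebra
  let bC : Algebra A C := f.toRingHom.toAlgebra
  have hR : @IsScalarTower A (A ⊗[k] A) C bT.toSMul aD.toSMul bC.toSMul :=
    @IsScalarTower.of_algebraMap_eq A (A ⊗[k] A) C _ _ _ bT aD bC fun a => by
      show f a = L (1 ⊗ₜ a)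
      simp [L]
  obtain ⟨e⟩ := @h1_loc k _ A A _ _ _ _ C _ _ instAC aD hL bC hR _ M hM
  exact ⟨e.toModuleIso⟩

theorem kaehler_twist {f : A →ₐ[k] C} (hf : IsShearLoc k A C f) :
    Nonempty ((ModuleCat.extendScalars f.toRingHom).obj (ModuleCat.of A Ω[A⁄k]) ≅
      ModuleCat.of C Ω[C⁄A]) := by
  obtain ⟨M, hM⟩ := hf
  let L := Algebra.TensorProduct.lift (IsScalarTower.toAlgHom k A C) f
    (fun _ _ => Commute.all _ _)
  let aD : Algebra (A ⊗[k] A) C := L.toRingHom.toAlgebra
  have hL : IsScalarTower A (A ⊗[k] A) C := IsScalarTower.of_algebraMap_eq fun a => by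
    show algebraMap A C a = L (a ⊗ₜ 1)
    simp [L]
  let bT : Algebra A (A ⊗[k] A) := Algebra.TensorProduct.rightAlgebra
  let bC : Algebra A C := f.toRingHom.toAlgebra
  have hR : @IsScalarTower A (A ⊗[k] A) C bT.toSMul aD.toSMul bC.toSMul :=
    @IsScalarTower.of_algebraMap_eq A (A ⊗[k] A) C _ _ _ bT aD bC fun a => by
      show f a = L (1 ⊗ₜ a)
      simp [L]
  obtain ⟨e⟩ := @kaehler_loc k _ A A _ _ _ _ C _ _ instAC aD hL bC hR M hM
  exact ⟨e.toModuleIso⟩

variable {k : Type u} [Field k] {A C : Type u} [CommRing A] [CommRing C] [Algebra k A]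
  [Algebra k C]

omit [Algebra k C] in
/-- a module whose two pullbacks to `C` agree is free if `ε ∘ m = id`, `ε ∘ g` constant. -/
theorem free_of_iso (g m : A →+* C) (ε : C →+* A) (ε₀ : A →+* k)
    (hm : ε.comp m = RingHom.id A) (hg : ε.comp g = (algebraMap k A).comp ε₀)
    (N : ModuleCat.{u} A)
    (e : (ModuleCat.extendScalars g).obj N ≅ (ModuleCat.extendScalars m).obj N) :
    Module.Free A N := by
  let i : (ModuleCat.extendScalars ((algebraMap k A).comp ε₀)).obj N ≅ N :=
    (eqToIso (by rw [← hg])) ≪≫ (ModuleCat.extendScalarsComp g ε).app N ≪≫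
      (ModuleCat.extendScalars ε).mapIso e ≪≫ ((ModuleCat.extendScalarsComp m ε).app N).symm ≪≫
      (eqToIso (by rw [hm])) ≪≫ (ModuleCat.extendScalarsId A).app N
  let i' := ((ModuleCat.extendScalarsComp ε₀ (algebraMap k A)).app N).symm ≪≫ i
  have : Module.Free A ((ModuleCat.extendScalars (algebraMap k A)).obj
      ((ModuleCat.extendScalars ε₀).obj N)) := by
    let a' : Algebra k A := (algebraMap k A).toAlgebra
    have h : Module.Free A (A ⊗[k] ((ModuleCat.extendScalars ε₀).obj N)) := inferInstance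
    exact h
  have : Module.Free A ((ModuleCat.extendScalars ε₀ ⋙
      ModuleCat.extendScalars (algebraMap k A)).obj N) := this
  exact Module.Free.of_equiv i'.toLinearEquiv

end twist

end Groth.Agent.H63.Homog.Alg
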