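import Groth.Agent.H63.Homog.Points
import Mathlib.AlgebraicGeometry.Pullbacks
import Mathlib.RingTheory.Flat.FaithfullyFlat.Algebra
import Mathlib.RingTheory.Flat.Localization
import Mathlib.RingTheory.LocalRing.Module
import Mathlib.RingTheory.FinitePresentation
import Mathlib.RingTheory.Flat.EquationalCriterion

/-!
# `Ω` and `H¹(L)` of affine opens of group schemes over fields are projective
-/

set_option autoImplicit false

universe u

open AlgebraicGeometry CategoryTheory MonoidalCategory CartesianMonoidalCategory MonObj GrpObj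
open scoped TensorProduct
open CategoryTheory.Limits (pullback)

namespace Groth.Agent.H63.Homog.Descent

section rational

variable {k : Type u} [Field k] (G : Over (Spec (CommRingCat.of k))) [GrpObj G]
variable {A₀ : Type u} [CommRing A₀] [Algebra k A₀] (j₀ : Spec (CommRingCat.of A₀) ⟶ G.left)
  [IsOpenImmersion j₀] (hj₀ : j₀ ≫ G.hom = Spec.map (CommRingCat.ofHom (algebraMap k A₀)))
  (ε : A₀ →ₐ[k] k)

instance : (RingHom.ker ε.toRingHom).IsPrime := RingHom.ker_isPrime _

include hj₀ in
theorem free_at_point :
    Module.Free (Localization.AtPrime (RingHom.ker ε.toRingHom))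
        (Algebra.H1Cotangent k (Localization.AtPrime (RingHom.ker ε.toRingHom))) ∧
      Module.Free (Localization.AtPrime (RingHom.ker ε.toRingHom))
        Ω[(Localization.AtPrime (RingHom.ker ε.toRingHom))⁄k] := by
  set A := Localization.AtPrime (RingHom.ker ε.toRingHom) with hA
  let ι₀ : A₀ →ₐ[k] A := IsScalarTower.toAlgHom k A₀ A
  have hu : ∀ y : (RingHom.ker ε.toRingHom).primeCompl, IsUnit (ε y) := fun y =>
    (Ne.isUnit fun h => y.2 h)
  let εA : A →ₐ[k] k := IsLocalization.liftAlgHom (M := (RingHom.ker ε.toRingHom).primeCompl) hu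
  have hεA : εA.comp ι₀ = ε := AlgHom.ext fun a => IsLocalization.lift_eq _ a
  let j : Points.sp (k := k) A₀ ⟶ G := Over.homMk j₀ hj₀
  have hmono : Mono j₀ := inferInstance
  refine Points.free_h1_kaehler (G := G) (A := A)
    { ε := εA, j := Points.spMap ι₀ ≫ j, inj := ?_, surj := ?_ }
  · intro R _ _ _ φ ψ h
    apply AlgHom.coe_ringHom_injective
    apply IsLocalization.ringHom_ext (RingHom.ker ε.toRingHom).primeCompl
    have h1 : (Points.spMap φ ≫ Points.spMap ι₀ ≫ j).left =
        (Points.spMap ψ ≫ Points.spMap ι₀ ≫ j).left := congrArg CommaMorphism.left h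
    rw [← Category.assoc, ← Category.assoc, ← Points.spMap_comp, ← Points.spMap_comp] at h1
    have h2 : Spec.map (CommRingCat.ofHom (φ.comp ι₀).toRingHom) =
        Spec.map (CommRingCat.ofHom (ψ.comp ι₀).toRingHom) := (cancel_mono j₀).1 h1
    exact congrArg CommRingCat.Hom.hom (Spec.map_injective h2)
  · intro R _ _ _ q hq
    let κ := IsLocalRing.ResidueField R
    rw [← Category.assoc, ← Points.spMap_comp, AlgHom.comp_assoc, hεA] at hq
    have hq' : Spec.map (CommRingCat.ofHom (algebraMap R κ)) ≫ q.left =
        Spec.map (CommRingCat.ofHom ((Algebra.ofId k κ).comp ε).toRingHom) ≫ j₀ :=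
      congrArg CommaMorphism.left hq
    have hrange : Set.range q.left ⊆ Set.range j₀ := by
      rintro _ ⟨x, rfl⟩
      have hc : q.left (IsLocalRing.closedPoint R) ∈ Set.range j₀ := by
        have e1 : Spec.map (CommRingCat.ofHom (algebraMap R κ)) (IsLocalRing.closedPoint κ) =
            IsLocalRing.closedPoint R :=
          IsLocalRing.comap_closedPoint (IsLocalRing.residue R)
        rw [← e1, ← Scheme.Hom.comp_apply, hq', Scheme.Hom.comp_apply]
        exact Set.mem_range_self _
      exact ((IsLocalRing.specializes_closedPoint x).map q.left.continuous).mem_open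
        j₀.isOpenEmbedding.isOpen_range hc
    let r := IsOpenImmersion.lift j₀ q.left hrange
    obtain ⟨f, hf⟩ := Spec.map_surjective r
    have hf' : Spec.map f ≫ j₀ = q.left := by rw [hf, IsOpenImmersion.lift_fac]
    have hcomm : ∀ x : k, f.hom (algebraMap k A₀ x) = algebraMap k R x := by
      intro x
      have h1 : Spec.map (CommRingCat.ofHom (algebraMap k A₀) ≫ f) =
          Spec.map (CommRingCat.ofHom (algebraMap k R)) := by
        rw [Spec.map_comp, ← hj₀, ← Category.assoc, hf']
        exact Over.w q
      exact RingHom.congr_fun (congrArg CommRingCat.Hom.hom (Spec.map_injective h1)) x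
    let f' : A₀ →ₐ[k] R := { f.hom with commutes' := hcomm }
    have hres : ∀ a, algebraMap R κ (f' a) = algebraMap k κ (ε a) := by
      intro a
      have h1 : Spec.map (f ≫ CommRingCat.ofHom (algebraMap R κ)) =
          Spec.map (CommRingCat.ofHom ((Algebra.ofId k κ).comp ε).toRingHom) := by
        rw [← cancel_mono j₀, ← hq', Spec.map_comp, Category.assoc, hf']
      exact RingHom.congr_fun (congrArg CommRingCat.Hom.hom (Spec.map_injective h1)) a
    have hunit : ∀ y : (RingHom.ker ε.toRingHom).primeCompl, IsUnit (f' y) := by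
      intro y
      by_contra hn
      have h0 : algebraMap R κ (f' y) = 0 :=
        Ideal.Quotient.eq_zero_iff_mem.2 ((IsLocalRing.mem_maximalIdeal _).2 hn)
      rw [hres, map_eq_zero] at h0
      exact y.2 h0
    let φ : A →ₐ[k] R := IsLocalization.liftAlgHom (M := (RingHom.ker ε.toRingHom).primeCompl) hunit
    refine ⟨φ, ?_⟩
    rw [← Category.assoc, ← Points.spMap_comp]
    apply Over.OverMorphism.ext
    show Spec.map (CommRingCat.ofHom (φ.comp ι₀).toRingHom) ≫ j₀ = q.left
    rw [show φ.comp ι₀ = f' from AlgHom.ext fun a => IsLocalization.lift_eq _ a]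
    exact hf'

end rational

section descent

variable {k : Type u} [Field k] (G : Over (Spec (CommRingCat.of k))) [GrpObj G]
variable {A₀ : Type u} [CommRing A₀] [Algebra k A₀] (j₀ : Spec (CommRingCat.of A₀) ⟶ G.left)
  [IsOpenImmersion j₀] (hj₀ : j₀ ≫ G.hom = Spec.map (CommRingCat.ofHom (algebraMap k A₀)))

/-- flatness at a prime from freeness after a faithfully flat local extension -/
theorem flat_localizedModule (p : Ideal A₀) [p.IsPrime] (C : Type u) [CommRing C] [IsLocalRing C]
    [Algebra A₀ C] [Module.Flat A₀ C] (hC : (IsLocalRing.maximalIdeal C).comap (algebraMap A₀ C) = p)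
    (N : Type u) [AddCommGroup N] [Module A₀ N] [Module.Flat C (C ⊗[A₀] N)] :
    Module.Flat A₀ (LocalizedModule p.primeCompl N) := by
  let Ap := Localization.AtPrime p
  have hu : ∀ y : p.primeCompl, IsUnit (algebraMap A₀ C y) := fun y => by
    by_contra hn
    have h1 : (y : A₀) ∈ (IsLocalRing.maximalIdeal C).comap (algebraMap A₀ C) :=
      (IsLocalRing.mem_maximalIdeal _).2 hn
    rw [hC] at h1
    exact y.2 h1
  let : Algebra Ap C := (IsLocalization.lift (M := p.primeCompl) (S := Ap) hu).toAlgebra
  have : IsScalarTower A₀ Ap C := IsScalarTower.of_algebraMap_eq fun a =>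
    (IsLocalization.lift_eq hu a).symm
  have : Module.Flat Ap C := (Module.flat_iff_of_isLocalization Ap p.primeCompl C).2 inferInstance
  have : IsLocalHom (algebraMap Ap C) := by
    constructor
    intro z hz
    obtain ⟨a, s, rfl⟩ := IsLocalization.exists_mk'_eq p.primeCompl z
    refine (IsLocalization.AtPrime.isUnit_mk'_iff Ap p a s).2 fun ha => ?_
    have h1 : algebraMap A₀ C a ∈ IsLocalRing.maximalIdeal C := by
      rw [← Ideal.mem_comap, hC]; exact ha
    have h2 : IsLocalization.mk' Ap a s * algebraMap A₀ Ap s = algebraMap A₀ Ap a :=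
      IsLocalization.mk'_spec Ap a s
    have h3 := congrArg (algebraMap Ap C) h2
    rw [map_mul, ← IsScalarTower.algebraMap_apply, ← IsScalarTower.algebraMap_apply] at h3
    exact (IsLocalRing.mem_maximalIdeal _).1 h1 (h3 ▸ hz.mul (hu s))
  have : Module.FaithfullyFlat Ap C := Module.FaithfullyFlat.of_flat_of_isLocalHom
  have : Module.Flat C (C ⊗[Ap] (Ap ⊗[A₀] N)) :=
    Module.Flat.of_linearEquiv (TensorProduct.AlgebraTensorModule.cancelBaseChange A₀ Ap C C N)
  have h4 : Module.Flat Ap (Ap ⊗[A₀] N) := Module.Flat.of_flat_tensorProduct Ap _ C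
  have : Module.Flat A₀ Ap := IsLocalization.flat Ap p.primeCompl
  have h5 : Module.Flat A₀ (Ap ⊗[A₀] N) := Module.Flat.trans A₀ Ap _
  exact Module.Flat.of_linearEquiv
    ((LocalizedModule.equivTensorProduct p.primeCompl N).restrictScalars A₀)

include hj₀ in
attribute [local instance] Algebra.TensorProduct.rightAlgebra in
theorem flat_at (p : Ideal A₀) [p.IsPrime] (K : Type u) [Field K] [Algebra k K] (π : A₀ →ₐ[k] K)
    (hπ : RingHom.ker π.toRingHom = p) :
    Module.Flat A₀ (LocalizedModule p.primeCompl (Algebra.H1Cotangent k A₀)) ∧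
      Module.Flat A₀ (LocalizedModule p.primeCompl Ω[A₀⁄k]) := by
  let B := K ⊗[k] A₀
  let ξ : B →ₐ[K] K := Algebra.TensorProduct.lift (AlgHom.id K K) π
    (fun _ _ => Commute.all _ _)
  let g : Spec (CommRingCat.of K) ⟶ Spec (CommRingCat.of k) :=
    Spec.map (CommRingCat.ofHom (algebraMap k K))
  let : GrpObj (Over.mk G.hom) := ‹GrpObj G›
  let : GrpObj (Over.mk (pullback.snd G.hom g)) := Over.grpObjMkPullbackSnd
  let c₀ : pullback (Spec.map (CommRingCat.ofHom (algebraMap k A₀)))
      (Spec.map (CommRingCat.ofHom (algebraMap k K))) ≅ pullback (j₀ ≫ G.hom) g :=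
    pullback.congrHom hj₀.symm rfl
  let jK : Spec (CommRingCat.of B) ⟶ (Over.mk (pullback.snd G.hom g)).left :=
    (pullbackSpecIso k K A₀).inv ≫ (Limits.pullbackSymmetry _ _).hom ≫ c₀.hom ≫
      (Limits.pullbackRightPullbackFstIso G.hom g j₀).inv ≫ pullback.snd j₀ (pullback.fst G.hom g)
  have : IsOpenImmersion jK := by
    show IsOpenImmersion ((pullbackSpecIso k K A₀).inv ≫ (Limits.pullbackSymmetry _ _).hom ≫
      c₀.hom ≫ (Limits.pullbackRightPullbackFstIso G.hom g j₀).inv ≫
      pullback.snd j₀ (pullback.fst G.hom g))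
    infer_instance
  have hjK : jK ≫ (Over.mk (pullback.snd G.hom g)).hom =
      Spec.map (CommRingCat.ofHom (algebraMap K B)) := by
    show jK ≫ pullback.snd G.hom g = _
    simp only [jK, c₀, Category.assoc]
    rw [Limits.pullbackRightPullbackFstIso_inv_snd_snd]
    rw [Limits.pullback.congrHom_hom]
    erw [Limits.pullback.lift_snd]
    erw [Category.comp_id, Limits.pullbackSymmetry_hom_comp_snd]
    exact pullbackSpecIso_inv_fst k K A₀
  have hfree := free_at_point (k := K) (Over.mk (pullback.snd G.hom g)) jK hjK ξ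
  let P := RingHom.ker ξ.toRingHom
  let C := Localization.AtPrime P
  have hPp : P.comap (algebraMap A₀ B) = p := by
    ext a
    rw [Ideal.mem_comap, RingHom.mem_ker]
    show ξ ((1 : K) ⊗ₜ[k] a) = 0 ↔ _
    rw [Algebra.TensorProduct.lift_tmul, map_one, _root_.one_mul]
    rw [← hπ, RingHom.mem_ker]
    rfl
  have hC : (IsLocalRing.maximalIdeal C).comap (algebraMap A₀ C) = p := by
    rw [IsScalarTower.algebraMap_eq A₀ B C]
    rw [← Ideal.comap_comap]
    have h9 : (IsLocalRing.maximalIdeal C).comap (algebraMap B C) = P :=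
      Ideal.ext fun y => IsLocalization.AtPrime.to_map_mem_maximal_iff C P y
    rw [h9]
    exact hPp
  have : Module.Flat A₀ B := by
    have h : Module.Flat A₀ (A₀ ⊗[k] K) := inferInstance
    exact Module.Flat.of_linearEquiv
      ({ (Algebra.TensorProduct.comm k K A₀).toLinearEquiv with
        map_smul' := fun a x => by
          show Algebra.TensorProduct.comm k K A₀ (a • x) = a • Algebra.TensorProduct.comm k K A₀ x
          induction x using TensorProduct.induction_on with
          | zero => rw [smul_zero, map_zero, smul_zero]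
          | add x y hx hy => rw [smul_add, map_add, map_add, hx, hy, smul_add]
          | tmul t b =>
            rw [Algebra.smul_def, Algebra.TensorProduct.right_algebraMap_apply,
              Algebra.TensorProduct.tmul_mul_tmul, _root_.one_mul,
              Algebra.TensorProduct.comm_tmul, Algebra.TensorProduct.comm_tmul,
              TensorProduct.smul_tmul', smul_eq_mul] } : (K ⊗[k] A₀) ≃ₗ[A₀] (A₀ ⊗[k] K))
  have : Module.Flat B C := IsLocalization.flat C P.primeCompl
  have : Module.Flat A₀ C := Module.Flat.trans A₀ B C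
  obtain ⟨e1⟩ := Alg.h1_loc k A₀ K C P.primeCompl
  obtain ⟨e2⟩ := Alg.kaehler_loc k A₀ K C P.primeCompl
  have : Module.Flat C (C ⊗[A₀] Algebra.H1Cotangent k A₀) :=
    have := hfree.1
    Module.Flat.of_linearEquiv e1
  have : Module.Flat C (C ⊗[A₀] Ω[A₀⁄k]) :=
    have := hfree.2
    Module.Flat.of_linearEquiv e2
  exact ⟨flat_localizedModule p C hC _, flat_localizedModule p C hC _⟩

variable [Algebra.FiniteType k A₀]

include hj₀ in
theorem flat_and_projective :
    Module.Flat A₀ (Algebra.H1Cotangent k A₀) ∧ Module.Projective A₀ Ω[A₀⁄k] := by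
  have : IsNoetherianRing A₀ := Algebra.FiniteType.isNoetherianRing k A₀
  have key : ∀ (p : Ideal A₀) [p.IsPrime],
      Module.Flat A₀ (LocalizedModule p.primeCompl (Algebra.H1Cotangent k A₀)) ∧
        Module.Flat A₀ (LocalizedModule p.primeCompl Ω[A₀⁄k]) := fun p _ =>
    flat_at G j₀ hj₀ p p.ResidueField (IsScalarTower.toAlgHom k A₀ p.ResidueField)
      (Ideal.ext fun _ => Ideal.algebraMap_residueField_eq_zero)
  constructor
  · exact Module.flat_of_localized_maximal _ fun p _ => (key p).1
  · have : Module.Flat A₀ Ω[A₀⁄k] := Module.flat_of_localized_maximal _ fun p _ => (key p).2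
    have : Module.FinitePresentation A₀ Ω[A₀⁄k] :=
      Module.finitePresentation_of_finite A₀ Ω[A₀⁄k]
    exact Module.Flat.projective_of_finitePresentation

end descent

end Groth.Agent.H63.Homog.Descent
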