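import Groth.Agent.H63.Homog.Descent
import Groth.Agent.Lib.Vasconcelos.Global
import Groth.Agent.Lib.Regular.Serre
import Groth.Agent.S9171
import Groth.Agent.Lib.Synt92.Congr
import Mathlib.RingTheory.RegularLocalRing.Polynomial
import Mathlib.RingTheory.Extension.Cotangent.Basis

/-!
# Affine opens of group schemes over fields are local complete intersections
-/

set_option autoImplicit false

universe u

open AlgebraicGeometry CategoryTheory
open scoped TensorProduct
open RingTheory.Sequence IsLocalRing

namespace Groth.Agent.H63.Homog.LCI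

section conormal

variable {R S : Type u} [CommRing R] [CommRing S] [Algebra R S]

theorem projective_cotangent (P : Algebra.Extension.{u} R S) [Module.Projective S P.H1Cotangent]
    [Module.Projective S P.CotangentSpace] [Module.Projective S Ω[S⁄R]] :
    Module.Projective S P.Cotangent := by
  let f := P.cotangentComplex.rangeRestrict
  have hf : Function.Surjective f := P.cotangentComplex.surjective_rangeRestrict
  -- the image is a direct summand of the cotangent space
  obtain ⟨s', hs'⟩ := Module.projective_lifting_property P.toKaehler LinearMap.id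
    P.toKaehler_surjective
  have hs'' : ∀ y, P.toKaehler (s' y) = y := fun y => LinearMap.congr_fun hs' y
  have hrange : LinearMap.range P.cotangentComplex = LinearMap.ker P.toKaehler :=
    P.exact_cotangentComplex_toKaehler.linearMap_ker_eq.symm
  let p : P.CotangentSpace →ₗ[S] LinearMap.range P.cotangentComplex :=
    (LinearMap.id - s'.comp P.toKaehler).codRestrict _ fun x => by
      rw [hrange, LinearMap.mem_ker]
      simp [hs'']
  have hp : ∀ y : LinearMap.range P.cotangentComplex, p y = y := fun y => by
    have hy : P.toKaehler y = 0 := LinearMap.mem_ker.1 (hrange.le y.2)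
    apply Subtype.ext
    simp [p, hy]
  have : Module.Projective S (LinearMap.range P.cotangentComplex) :=
    Module.Projective.of_split (LinearMap.range P.cotangentComplex).subtype p (LinearMap.ext hp)
  obtain ⟨s, hs⟩ := Module.projective_lifting_property f LinearMap.id hf
  have hs0 : ∀ y, f (s y) = y := fun y => LinearMap.congr_fun hs y
  let φ : P.Cotangent →ₗ[S] P.H1Cotangent × LinearMap.range P.cotangentComplex :=
    ((LinearMap.id - s.comp f).codRestrict (LinearMap.ker P.cotangentComplex) fun x => by
      rw [LinearMap.mem_ker, LinearMap.sub_apply, map_sub, sub_eq_zero]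
      exact (congrArg Subtype.val (hs0 (f x))).symm).prod f
  let ψ : P.H1Cotangent × LinearMap.range P.cotangentComplex →ₗ[S] P.Cotangent :=
    P.h1Cotangentι.coprod s
  refine Module.Projective.of_split φ ψ (LinearMap.ext fun x => ?_)
  show (x - s (f x)) + s (f x) = x
  abel

end conormal

variable {k : Type u} [Field k]

theorem projective_conormal {n : ℕ} (I : Ideal (MvPolynomial (Fin n) k))
    (h1 : Module.Projective (MvPolynomial (Fin n) k ⧸ I)
      (Algebra.H1Cotangent k (MvPolynomial (Fin n) k ⧸ I)))
    (h2 : Module.Projective (MvPolynomial (Fin n) k ⧸ I) Ω[(MvPolynomial (Fin n) k ⧸ I)⁄k]) :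
    Module.Projective (MvPolynomial (Fin n) k ⧸ I) I.Cotangent := by
  let S := MvPolynomial (Fin n) k ⧸ I
  have hv : MvPolynomial.aeval (R := k) (fun i => Ideal.Quotient.mk I (MvPolynomial.X i)) =
      Ideal.Quotient.mkₐ k I := MvPolynomial.algHom_ext fun i => by simp
  let G : Algebra.Generators k S (Fin n) :=
    Algebra.Generators.ofSurjective (fun i => Ideal.Quotient.mk I (MvPolynomial.X i))
      (by rw [hv]; exact Ideal.Quotient.mkₐ_surjective k I)
  let P := G.toExtension
  have halg : ∀ x : MvPolynomial (Fin n) k, algebraMap P.Ring S x = Ideal.Quotient.mk I x :=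
    fun x => DFunLike.congr_fun hv x
  have hker : P.ker = I := by
    show RingHom.ker (algebraMap P.Ring S) = I
    ext x
    rw [RingHom.mem_ker, halg, Ideal.Quotient.eq_zero_iff_mem]
    exact Iff.rfl
  have : Module.Projective S P.H1Cotangent := Module.Projective.of_equiv G.equivH1Cotangent.symm
  have : Module.Projective S P.CotangentSpace :=
    Module.Projective.of_basis G.cotangentSpaceBasis
  have := projective_cotangent P
  let I' : Ideal P.Ring := I
  let e : P.Cotangent ≃ₗ[P.Ring] I'.Cotangent :=
    P.cotangentEquivCotangentKer.trans (Ideal.Cotangent.equivOfEq P.ker I' hker)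
  let F : P.Cotangent → I.Cotangent := fun x => e x
  have hlin : ∀ (a : S) (x : P.Cotangent), F (a • x) = a • F x := by
    intro a x
    obtain ⟨a, rfl⟩ := Ideal.Quotient.mk_surjective a
    show e (Ideal.Quotient.mk I a • x) = Ideal.Quotient.mk I a • F x
    rw [← halg a, algebraMap_smul, map_smul, halg a]
    exact (algebraMap_smul (MvPolynomial (Fin n) k ⧸ I) a (F x)).symm
  exact Module.Projective.of_equiv
    ({ toFun := F
       invFun := fun x => e.symm x
       left_inv := e.symm_apply_apply
       right_inv := e.apply_symm_apply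
       map_add' := map_add e
       map_smul' := hlin } : P.Cotangent ≃ₗ[S] I.Cotangent)

theorem exists_regular_gens {n : ℕ} (I : Ideal (MvPolynomial (Fin n) k))
    [Module.Projective (MvPolynomial (Fin n) k ⧸ I) I.Cotangent]
    (Q : Ideal (MvPolynomial (Fin n) k)) [Q.IsPrime] (hIQ : I ≤ Q) :
    ∃ rs : List (Localization.AtPrime Q), IsRegular (Localization.AtPrime Q) rs ∧
      Ideal.ofList rs = I.map (algebraMap _ (Localization.AtPrime Q)) := by
  let A := Localization.AtPrime Q
  let J : Ideal A := I.map (algebraMap _ A)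
  have : IsRegularLocalRing A :=
    IsRegularRing.isRegularLocalRing_localization (R := MvPolynomial (Fin n) k) Q
  have hJ : J ≤ maximalIdeal A := by
    rw [← Localization.AtPrime.map_eq_maximalIdeal]
    exact Ideal.map_mono hIQ
  have hJtop : J ≠ ⊤ := fun h =>
    (IsLocalRing.maximalIdeal.isMaximal A).ne_top (top_le_iff.1 (h ▸ hJ))
  obtain ⟨r, y, c, hc, hspan⟩ :=
    Lib.Vasconcelos.Global.exists_local_coordinates I A Q.primeCompl hJtop
  obtain ⟨x, hxy, hreg⟩ := Lib.Vasconcelos.Core.exists_isRegular_lift r J hJtop _
    (Lib.Regular.Serre.pdle_all (R := A) J) y c hc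
  have hxJ : ∀ i, x i ∈ J := fun i => by
    have := add_mem (Ideal.pow_le_self two_ne_zero (hxy i)) (y i).2
    rwa [sub_add_cancel] at this
  refine ⟨List.ofFn x, hreg, le_antisymm ?_ ?_⟩
  · refine Ideal.span_le.2 fun a ha => ?_
    obtain ⟨i, rfl⟩ := List.mem_ofFn.1 ha
    exact hxJ i
  · have hgen : J ≤ Ideal.span (Set.range x) := by
      refine Submodule.le_of_le_smul_of_le_jacobson_bot (IsNoetherian.noetherian J)
        (hJ.trans (IsLocalRing.jacobson_eq_maximalIdeal ⊥ bot_ne_top).ge) (fun w hw => ?_)
      have hw' :=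
        Submodule.mem_map_of_mem (f := J.subtype) (hspan (Submodule.mem_top (x := ⟨w, hw⟩)))
      rw [Submodule.map_sup, Submodule.map_span, Submodule.map_smul'', Submodule.map_subtype_top]
        at hw'
      refine (sup_le (a := Submodule.span A (J.subtype '' Set.range y))
        (c := Ideal.span (Set.range x) ⊔ J • J) (Submodule.span_le.2 ?_) le_sup_right) hw'
      rintro _ ⟨_, ⟨i, rfl⟩, rfl⟩
      have h2 : ((y i : A) - x i) ∈ J • J := by
        rw [smul_eq_mul, ← pow_two]
        exact neg_sub (x i) (y i : A) ▸ neg_mem (hxy i)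
      rw [Submodule.coe_subtype, ← add_sub_cancel (x i) (y i : A)]
      exact Submodule.add_mem_sup (Ideal.subset_span ⟨i, rfl⟩) h2
    refine hgen.trans (Ideal.span_mono ?_)
    rintro _ ⟨i, rfl⟩
    exact List.mem_ofFn.2 ⟨i, rfl⟩

variable (G : Over (Spec (CommRingCat.of k))) [GrpObj G]

/-- the ring of an affine open of a group scheme over a field is a local complete intersection -/
theorem isLCIOver {A : Type u} [CommRing A] [Algebra k A] [hft : Algebra.FiniteType k A]
    (j : Spec (CommRingCat.of A) ⟶ G.left) [IsOpenImmersion j]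
    (hj : j ≫ G.hom = Spec.map (CommRingCat.ofHom (algebraMap k A))) : Synt.IsLCIOver k A := by
  obtain ⟨n, π, hπ⟩ := Algebra.FiniteType.iff_quotient_mvPolynomial''.1 hft
  let I := RingHom.ker π.toRingHom
  let S := MvPolynomial (Fin n) k ⧸ I
  let e : S ≃ₐ[k] A := Ideal.quotientKerAlgEquivOfSurjective hπ
  refine Lib.Synt92.Congr.isLCIOver_congr e ?_
  let j' : Spec (CommRingCat.of S) ⟶ G.left :=
    Spec.map (e.toRingEquiv.toCommRingCatIso.inv) ≫ j
  have : IsOpenImmersion j' := by
    show IsOpenImmersion (Spec.map (e.toRingEquiv.toCommRingCatIso.inv) ≫ j)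
    infer_instance
  have hj' : j' ≫ G.hom = Spec.map (CommRingCat.ofHom (algebraMap k S)) := by
    rw [Category.assoc, hj, ← Spec.map_comp]
    congr 1
    ext x
    exact e.symm.commutes x
  have hS : Algebra.FiniteType k S := inferInstance
  have : IsNoetherianRing S := Algebra.FiniteType.isNoetherianRing k S
  obtain ⟨hflat, hΩ⟩ := Descent.flat_and_projective G j' hj'
  have : Algebra.FinitePresentation k S := Algebra.FinitePresentation.of_finiteType.1 hS
  have : Module.FinitePresentation S (Algebra.H1Cotangent k S) :=
    Module.finitePresentation_of_finite S _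
  have hH1 : Module.Projective S (Algebra.H1Cotangent k S) :=
    Module.Flat.projective_of_finitePresentation
  have := projective_conormal I hH1 hΩ
  refine ⟨hS, fun q => ?_⟩
  let Q := q.asIdeal.comap (Ideal.Quotient.mk I)
  have hIQ : I ≤ Q := fun x hx => by
    show Ideal.Quotient.mk I x ∈ q.asIdeal
    rw [Ideal.Quotient.eq_zero_iff_mem.2 hx]
    exact zero_mem _
  have hle : q.asIdeal.height ≤ Q.height := by
    rw [← WithBot.coe_le_coe,
      ← IsLocalization.AtPrime.ringKrullDim_eq_height q.asIdeal (Localization.AtPrime q.asIdeal),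
      ← IsLocalization.AtPrime.ringKrullDim_eq_height Q (Localization.AtPrime Q)]
    obtain ⟨φ, hφ, -⟩ := Lib.Synt92.LocalQuot.exists_hom (Ideal.Quotient.mkₐ k I)
      (Ideal.Quotient.mkₐ_surjective k I) q.asIdeal (Localization.AtPrime q.asIdeal)
    exact ringKrullDim_le_of_surjective φ.toRingHom hφ
  have hfin : Q.height ≠ ⊤ := Ideal.height_ne_top (Ideal.IsPrime.ne_top inferInstance)
  obtain ⟨b, hb⟩ := ENat.ne_top_iff_exists.1 hfin
  obtain ⟨a, ha⟩ := ENat.ne_top_iff_exists.1 (ne_top_of_le_ne_top hfin hle)
  have hab : a ≤ b := by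
    rw [← ha, ← hb] at hle
    exact_mod_cast hle
  have hc : ((b - a : ℕ) : ℕ∞) + q.asIdeal.height = Q.height := by
    rw [← ha, ← hb]
    exact_mod_cast Nat.sub_add_cancel hab
  exact (S9171.result k n I q.asIdeal (b - a) hc).2.2 (exists_regular_gens I Q hIQ)

end Groth.Agent.H63.Homog.LCI
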