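import Groth.Agent.H63.Homog.Alg
import Mathlib.AlgebraicGeometry.Group.Smooth
import Mathlib.CategoryTheory.Monoidal.Cartesian.Grp
import Mathlib.CategoryTheory.Monoidal.Cartesian.Over
import Mathlib.RingTheory.LocalRing.ResidueField.Basic
import Mathlib.RingTheory.Localization.AtPrime.Basic

/-!
# Homogeneity of a group scheme at a rational point

`A` plays the role of the local ring at a rational point of `G`, seen through its functor of points
on local algebras.
-/

set_option autoImplicit false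

universe u

open AlgebraicGeometry CategoryTheory MonoidalCategory CartesianMonoidalCategory MonObj GrpObj
open scoped TensorProduct

namespace Groth.Agent.H63.Homog.Points

theorem isLocalization_of_eq {D C : Type u} [CommRing D] [CommRing C] [Algebra D C] (M : Submonoid D)
    [IsLocalization M C] (f : D →+* C) (e : C ≃+* C) (h : ∀ y, f y = e (algebraMap D C y)) :
    @IsLocalization _ _ M C _ f.toAlgebra := by
  have h1 := (IsLocalization.isLocalization_iff_of_ringEquiv (S := C) M e).1 inferInstance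
  have h2 : f = e.toRingHom.comp (algebraMap D C) := RingHom.ext h
  rw [h2]
  exact h1

variable {k : Type u} [Field k]

/-- `Spec R` over `k` -/
noncomputable abbrev sp (R : Type u) [CommRing R] [Algebra k R] : Over (Spec (CommRingCat.of k)) :=
  Over.mk (Spec.map (CommRingCat.ofHom (algebraMap k R)))

/-- functoriality -/
noncomputable def spMap {R R' : Type u} [CommRing R] [Algebra k R] [CommRing R'] [Algebra k R']
    (φ : R →ₐ[k] R') : sp (k := k) R' ⟶ sp R :=
  Over.homMk (Spec.map (CommRingCat.ofHom φ.toRingHom)) (by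
    show Spec.map _ ≫ Spec.map _ = Spec.map _
    rw [← Spec.map_comp, ← CommRingCat.ofHom_comp]
    congr 2
    exact φ.comp_algebraMap)

theorem spMap_comp {R R' R'' : Type u} [CommRing R] [Algebra k R] [CommRing R'] [Algebra k R']
    [CommRing R''] [Algebra k R''] (φ : R →ₐ[k] R') (ψ : R' →ₐ[k] R'') :
    spMap (ψ.comp φ) = spMap ψ ≫ spMap φ := by
  apply Over.OverMorphism.ext
  show Spec.map _ = Spec.map _ ≫ Spec.map _
  rw [← Spec.map_comp]
  rfl

variable {G : Over (Spec (CommRingCat.of k))} [GrpObj G]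
variable {A : Type u} [CommRing A] [Algebra k A]

/-- `(A, ε)` represents, through `j`, the points of `G` in local algebras with closed point `ε`. -/
structure Chart (G : Over (Spec (CommRingCat.of k))) [GrpObj G] (A : Type u) [CommRing A]
    [Algebra k A] where
  ε : A →ₐ[k] k
  j : sp (k := k) A ⟶ G
  inj : ∀ (R : Type u) [CommRing R] [Algebra k R] [IsLocalRing R] (φ ψ : A →ₐ[k] R),
    spMap φ ≫ j = spMap ψ ≫ j → φ = ψ
  surj : ∀ (R : Type u) [CommRing R] [Algebra k R] [IsLocalRing R] (q : sp (k := k) R ⟶ G),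
    spMap (IsScalarTower.toAlgHom k R (IsLocalRing.ResidueField R)) ≫ q =
      spMap ((Algebra.ofId k (IsLocalRing.ResidueField R)).comp ε) ≫ j →
    ∃ φ : A →ₐ[k] R, spMap φ ≫ j = q

variable (c : Chart G A) {R R' : Type u} [CommRing R] [Algebra k R] [CommRing R'] [Algebra k R']

/-- the point of a homomorphism -/
noncomputable def pt (φ : A →ₐ[k] R) : sp (k := k) R ⟶ G := spMap φ ≫ c.j

/-- the constant homomorphism -/
noncomputable def cst (R : Type u) [CommRing R] [Algebra k R] : A →ₐ[k] R :=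
  (Algebra.ofId k R).comp c.ε

theorem comp_pt (f : R →ₐ[k] R') (φ : A →ₐ[k] R) : spMap f ≫ pt c φ = pt c (f.comp φ) := by
  rw [pt, pt, spMap_comp, Category.assoc]

theorem comp_cst (f : R →ₐ[k] R') : f.comp (cst c R) = cst c R' := by
  ext a
  simp [cst]

variable [IsLocalRing R] [IsLocalRing R']

/-- the residue map -/
noncomputable abbrev res (R : Type u) [CommRing R] [Algebra k R] [IsLocalRing R] :
    R →ₐ[k] IsLocalRing.ResidueField R :=
  IsScalarTower.toAlgHom k R (IsLocalRing.ResidueField R)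

/-- homomorphisms with the closed point at the given point -/
def Near (φ : A →ₐ[k] R) : Prop := (res R).comp φ = cst c (IsLocalRing.ResidueField R)

theorem near_cst : Near c (cst c R) := comp_cst c _

theorem exists_pt (q : sp (k := k) R ⟶ G)
    (hq : spMap (res R) ≫ q = pt c (cst c (IsLocalRing.ResidueField R))) :
    ∃ φ : A →ₐ[k] R, pt c φ = q ∧ Near c φ := by
  obtain ⟨φ, hφ⟩ := c.surj R q hq
  refine ⟨φ, hφ, ?_⟩
  apply c.inj
  rw [spMap_comp, Category.assoc, hφ]
  exact hq

theorem exists_shear (g h : A →ₐ[k] R) (hg : Near c g) (hh : Near c h) :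
    ∃ m : A →ₐ[k] R, pt c m = pt c g * (pt c (cst c R))⁻¹ * pt c h ∧ Near c m := by
  refine exists_pt c _ ?_
  rw [MonObj.comp_mul, MonObj.comp_mul, GrpObj.comp_inv, comp_pt, comp_pt, comp_pt, hg, hh,
    comp_cst, mul_inv_cancel, _root_.one_mul]

theorem exists_unshear (g h : A →ₐ[k] R) (hg : Near c g) (hh : Near c h) :
    ∃ m : A →ₐ[k] R, pt c m = pt c g * (pt c h)⁻¹ * pt c (cst c R) ∧ Near c m := by
  refine exists_pt c _ ?_
  rw [MonObj.comp_mul, MonObj.comp_mul, GrpObj.comp_inv, comp_pt, comp_pt, comp_pt, hg, hh,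
    comp_cst, mul_inv_cancel, _root_.one_mul]

omit [IsLocalRing R] in
theorem eps_surjective : Function.Surjective c.ε := fun a => ⟨algebraMap k A a, by simp⟩

theorem near_id [IsLocalRing A] : Near c (AlgHom.id k A) := by
  ext a
  have hmax : RingHom.ker c.ε.toRingHom = IsLocalRing.maximalIdeal A :=
    IsLocalRing.eq_maximalIdeal (RingHom.ker_isMaximal_of_surjective _ (eps_surjective c))
  have h1 : a - algebraMap k A (c.ε a) ∈ IsLocalRing.maximalIdeal A := by
    rw [← hmax, RingHom.mem_ker]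
    simp
  have h2 : IsLocalRing.residue A (a - algebraMap k A (c.ε a)) = 0 :=
    Ideal.Quotient.eq_zero_iff_mem.2 h1
  rw [map_sub, sub_eq_zero] at h2
  show algebraMap A (IsLocalRing.ResidueField A) a = algebraMap k _ (c.ε a)
  rw [IsScalarTower.algebraMap_apply k A (IsLocalRing.ResidueField A)]
  exact h2

/-- the local ring of `A ⊗ A` at the pair of rational points -/
noncomputable abbrev epsPair : A ⊗[k] A →ₐ[k] k :=
  Algebra.TensorProduct.lift c.ε c.ε (fun _ _ => Commute.all _ _)

theorem epsPair_surjective : Function.Surjective (epsPair c) := fun a =>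
  ⟨algebraMap k (A ⊗[k] A) a, by rw [AlgHom.commutes]; simp⟩

noncomputable instance : (RingHom.ker (epsPair c).toRingHom).IsPrime :=
  RingHom.ker_isPrime _

/-- the local ring -/
abbrev Loc : Type u := Localization.AtPrime (RingHom.ker (epsPair c).toRingHom)

/-- the pairing of two near homomorphisms -/
theorem exists_pair (h g : A →ₐ[k] R) (hh : Near c h) (hg : Near c g) :
    ∃ L : Loc c →ₐ[k] R, ∀ a b, L (algebraMap (A ⊗[k] A) (Loc c) (a ⊗ₜ[k] b)) = h a * g b := by
  let l : A ⊗[k] A →ₐ[k] R := Algebra.TensorProduct.lift h g (fun _ _ => Commute.all _ _)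
  have hl : (res R).comp l = (Algebra.ofId k _).comp (epsPair c) := by
    apply Algebra.TensorProduct.ext
    · ext a
      have := DFunLike.congr_fun hh a
      simp [l, cst] at this ⊢
      exact this
    · ext a
      have := DFunLike.congr_fun hg a
      simp [l, cst] at this ⊢
      exact this
  have hu : ∀ y : (RingHom.ker (epsPair c).toRingHom).primeCompl, IsUnit (l y) := by
    rintro ⟨y, hy⟩
    by_contra hn
    have h0 : res (k := k) R (l y) = 0 :=
      Ideal.Quotient.eq_zero_iff_mem.2 ((IsLocalRing.mem_maximalIdeal _).2 hn)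
    have h1 : (res R).comp l y = 0 := h0
    rw [hl] at h1
    apply hy
    show (epsPair c) y = 0
    exact (map_eq_zero_iff _ (algebraMap k (IsLocalRing.ResidueField R)).injective).1 h1
  refine ⟨IsLocalization.liftAlgHom hu, fun a b => ?_⟩
  rw [IsLocalization.coe_liftAlgHom, IsLocalization.lift_eq]
  exact Algebra.TensorProduct.lift_tmul _ _ _ a b

omit [IsLocalRing R] in
theorem pair_ext {L L' : Loc c →ₐ[k] R}
    (h1 : ∀ a, L (algebraMap (A ⊗[k] A) (Loc c) (a ⊗ₜ[k] (1 : A))) =
      L' (algebraMap (A ⊗[k] A) (Loc c) (a ⊗ₜ[k] (1 : A))))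
    (h2 : ∀ a, L (algebraMap (A ⊗[k] A) (Loc c) ((1 : A) ⊗ₜ[k] a)) =
      L' (algebraMap (A ⊗[k] A) (Loc c) ((1 : A) ⊗ₜ[k] a))) : L = L' := by
  apply AlgHom.coe_ringHom_injective
  apply IsLocalization.ringHom_ext (RingHom.ker (epsPair c).toRingHom).primeCompl
  have : L.comp (IsScalarTower.toAlgHom k (A ⊗[k] A) (Loc c)) =
      L'.comp (IsScalarTower.toAlgHom k (A ⊗[k] A) (Loc c)) :=
    Algebra.TensorProduct.ext (AlgHom.ext h1) (AlgHom.ext h2)
  exact congrArg AlgHom.toRingHom this

/-- left inclusion -/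
noncomputable def hC : A →ₐ[k] Loc c :=
  IsScalarTower.toAlgHom k A (Loc c)

/-- right inclusion -/
noncomputable def gC : A →ₐ[k] Loc c :=
  (IsScalarTower.toAlgHom k (A ⊗[k] A) (Loc c)).comp Algebra.TensorProduct.includeRight

theorem near_inclusions : Near c (hC c) ∧ Near c (gC c) := by
  have key : ∀ y : A ⊗[k] A, res (k := k) (Loc c) (algebraMap _ (Loc c) y) =
      algebraMap k _ (epsPair c y) := by
    intro y
    have h1 : y - algebraMap k _ (epsPair c y) ∈ RingHom.ker (epsPair c).toRingHom := by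
      rw [RingHom.mem_ker]
      show epsPair c _ = 0
      rw [map_sub, AlgHom.commutes]
      simp
    have h2 : algebraMap _ (Loc c) (y - algebraMap k _ (epsPair c y)) ∈
        IsLocalRing.maximalIdeal (Loc c) :=
      (IsLocalization.AtPrime.to_map_mem_maximal_iff (Loc c) _ _).2 h1
    have h3 := Ideal.Quotient.eq_zero_iff_mem.2 h2
    rw [map_sub, map_sub, sub_eq_zero] at h3
    show algebraMap (Loc c) (IsLocalRing.ResidueField (Loc c)) _ = _
    rw [IsScalarTower.algebraMap_apply k (Loc c) (IsLocalRing.ResidueField (Loc c)),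
      IsScalarTower.algebraMap_apply k (A ⊗[k] A) (Loc c)]
    exact h3
  constructor <;> ext a <;>
  · refine (key _).trans ?_
    simp [cst]

theorem free_h1_kaehler [IsLocalRing A] (c : Chart G A) :
    Module.Free A (Algebra.H1Cotangent k A) ∧ Module.Free A Ω[A⁄k] := by
  obtain ⟨hh, hg⟩ := near_inclusions c
  obtain ⟨m, hm, hm'⟩ := exists_shear c (gC c) (hC c) hg hh
  obtain ⟨n, hn, hn'⟩ := exists_unshear c (gC c) (hC c) hg hh
  obtain ⟨σ, hσ⟩ := exists_pair c (hC c) m hh hm'
  obtain ⟨τ, hτ⟩ := exists_pair c (hC c) n hh hn'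
  have eh : ∀ (L : Loc c →ₐ[k] Loc c) (b : A →ₐ[k] Loc c),
      (∀ x y, L (algebraMap (A ⊗[k] A) (Loc c) (x ⊗ₜ[k] y)) = hC c x * b y) →
      L.comp (hC c) = hC c ∧ L.comp (gC c) = b := by
    intro L b hL
    constructor <;> ext a
    · show L (algebraMap _ (Loc c) (a ⊗ₜ[k] (1 : A))) = _
      rw [hL, map_one, _root_.mul_one]
    · show L (algebraMap _ (Loc c) ((1 : A) ⊗ₜ[k] a)) = _
      rw [hL, map_one, _root_.one_mul]
  obtain ⟨hσh, hσg⟩ := eh σ m hσ
  obtain ⟨hτh, hτg⟩ := eh τ n hτ
  have hσn : σ.comp n = gC c := by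
    apply c.inj
    show pt c _ = pt c _
    rw [← comp_pt, hn, MonObj.comp_mul, MonObj.comp_mul, GrpObj.comp_inv, comp_pt, comp_pt,
      comp_pt, hσg, hσh, comp_cst, hm]
    group
  have hτm : τ.comp m = gC c := by
    apply c.inj
    show pt c _ = pt c _
    rw [← comp_pt, hm, MonObj.comp_mul, MonObj.comp_mul, GrpObj.comp_inv, comp_pt, comp_pt,
      comp_pt, hτg, hτh, comp_cst, hn]
    group
  have hστ : σ.comp τ = AlgHom.id k _ := by
    apply pair_ext c
    · intro a
      show (σ.comp (τ.comp (hC c))) a = hC c a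
      rw [hτh, hσh]
    · intro a
      show (σ.comp (τ.comp (gC c))) a = gC c a
      rw [hτg, hσn]
  have hτσ : τ.comp σ = AlgHom.id k _ := by
    apply pair_ext c
    · intro a
      show (τ.comp (σ.comp (hC c))) a = hC c a
      rw [hσh, hτh]
    · intro a
      show (τ.comp (σ.comp (gC c))) a = gC c a
      rw [hσg, hτm]
  let e : Loc c ≃ₐ[k] Loc c := AlgEquiv.ofAlgHom σ τ hστ hτσ
  have l1 : Alg.IsShearLoc k A (Loc c) (gC c) := by
    refine ⟨(RingHom.ker (epsPair c).toRingHom).primeCompl,
      isLocalization_of_eq _ _ (RingEquiv.refl _) fun y => ?_⟩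
    show Algebra.TensorProduct.lift _ (gC c) _ y = algebraMap _ (Loc c) y
    induction y using TensorProduct.induction_on with
    | zero => simp
    | add x y hx hy => rw [map_add, map_add, hx, hy]
    | tmul a b =>
      rw [Algebra.TensorProduct.lift_tmul]
      show algebraMap _ (Loc c) (a ⊗ₜ[k] (1 : A)) * algebraMap _ (Loc c) ((1 : A) ⊗ₜ[k] b) = _
      rw [← map_mul, Algebra.TensorProduct.tmul_mul_tmul, _root_.mul_one, _root_.one_mul]
  have l2 : Alg.IsShearLoc k A (Loc c) m := by
    refine ⟨(RingHom.ker (epsPair c).toRingHom).primeCompl,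
      isLocalization_of_eq _ _ e.toRingEquiv fun y => ?_⟩
    show Algebra.TensorProduct.lift _ m _ y = σ (algebraMap _ (Loc c) y)
    induction y using TensorProduct.induction_on with
    | zero => simp
    | add x y hx hy => rw [map_add, map_add, map_add, hx, hy]
    | tmul a b =>
      rw [Algebra.TensorProduct.lift_tmul, hσ]
      rfl
  obtain ⟨E, hE⟩ := exists_pair c (AlgHom.id k A) (cst c A) (near_id c) (near_cst c)
  have hEg : E.comp (gC c) = cst c A := by
    ext a
    show E (algebraMap _ (Loc c) ((1 : A) ⊗ₜ[k] a)) = _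
    rw [hE, map_one, _root_.one_mul]
  have hEh : E.comp (hC c) = AlgHom.id k A := by
    ext a
    show E (algebraMap _ (Loc c) (a ⊗ₜ[k] (1 : A))) = _
    rw [hE, map_one, _root_.mul_one]
  have hEm : E.comp m = AlgHom.id k A := by
    apply c.inj
    show pt c _ = pt c _
    rw [← comp_pt, hm, MonObj.comp_mul, MonObj.comp_mul, GrpObj.comp_inv, comp_pt, comp_pt,
      comp_pt, hEg, hEh, comp_cst, mul_inv_cancel, _root_.one_mul]
  have h1 : E.toRingHom.comp m.toRingHom = RingHom.id A := congrArg AlgHom.toRingHom hEm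
  have h2 : E.toRingHom.comp (gC c).toRingHom = (algebraMap k A).comp c.ε.toRingHom :=
    congrArg AlgHom.toRingHom hEg
  constructor
  · obtain ⟨i₁⟩ := Alg.h1_twist l1
    obtain ⟨i₂⟩ := Alg.h1_twist l2
    exact Alg.free_of_iso _ _ E.toRingHom c.ε.toRingHom h1 h2 (ModuleCat.of A _) (i₁ ≪≫ i₂.symm)
  · obtain ⟨i₁⟩ := Alg.kaehler_twist l1
    obtain ⟨i₂⟩ := Alg.kaehler_twist l2
    exact Alg.free_of_iso _ _ E.toRingHom c.ε.toRingHom h1 h2 (ModuleCat.of A _) (i₁ ≪≫ i₂.symm)

end Groth.Agent.H63.Homog.Points
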