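import Groth.Agent.H63.Homog.LCI
import Groth.Prelude.Def_RegImm
import Mathlib.AlgebraicGeometry.Morphisms.Flat
import Mathlib.AlgebraicGeometry.Morphisms.FinitePresentation

/-!
# Flat locally finitely presented group schemes are syntomic
-/

set_option autoImplicit false

universe u

open AlgebraicGeometry CategoryTheory CategoryTheory.Limits
open scoped TensorProduct

namespace Groth.Agent.H63.Homog.Syntomic

variable {S : Scheme.{u}} (G : Over S) [GrpObj G]

/-- fibre rings of affine charts of a group scheme are LCI -/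
theorem isLCIOver_fibre {R A : Type u} [CommRing R] [CommRing A] [Algebra R A]
    [Algebra.FiniteType R A] (i : Spec (CommRingCat.of A) ⟶ G.left) [IsOpenImmersion i]
    (v : Spec (CommRingCat.of R) ⟶ S) [Mono v]
    (hi : i ≫ G.hom = Spec.map (CommRingCat.ofHom (algebraMap R A)) ≫ v)
    (p : PrimeSpectrum R) : Synt.IsLCIOver p.asIdeal.ResidueField (p.asIdeal.Fiber A) := by
  let K := p.asIdeal.ResidueField
  let gR : Spec (CommRingCat.of K) ⟶ Spec (CommRingCat.of R) :=
    Spec.map (CommRingCat.ofHom (algebraMap R K))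
  let g := gR ≫ v
  let : GrpObj (Over.mk G.hom) := ‹GrpObj G›
  let : GrpObj (Over.mk (pullback.snd G.hom g)) := Over.grpObjMkPullbackSnd
  let m : pullback (Spec.map (CommRingCat.ofHom (algebraMap R A))) gR ⟶ pullback G.hom g :=
    pullback.map _ _ _ _ i (𝟙 _) v hi.symm (Category.id_comp _).symm
  let j : Spec (CommRingCat.of (K ⊗[R] A)) ⟶ (Over.mk (pullback.snd G.hom g)).left :=
    (pullbackSpecIso R K A).inv ≫ (pullbackSymmetry _ _).hom ≫ m
  have : IsOpenImmersion j := by
    show IsOpenImmersion ((pullbackSpecIso R K A).inv ≫ (pullbackSymmetry _ _).hom ≫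
      pullback.map _ _ _ _ i (𝟙 _) v hi.symm (Category.id_comp _).symm)
    infer_instance
  have hj : j ≫ (Over.mk (pullback.snd G.hom g)).hom =
      Spec.map (CommRingCat.ofHom (algebraMap K (K ⊗[R] A))) := by
    show ((pullbackSpecIso R K A).inv ≫ (pullbackSymmetry _ _).hom ≫ m) ≫ pullback.snd G.hom g = _
    simp only [Category.assoc, m]
    erw [pullback.lift_snd]
    erw [Category.comp_id, pullbackSymmetry_hom_comp_snd]
    exact pullbackSpecIso_inv_fst R K A
  exact LCI.isLCIOver (Over.mk (pullback.snd G.hom g)) j hj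

theorem isSyntomicMor [Flat G.hom] [LocallyOfFinitePresentation G.hom] :
    Synt.IsSyntomicMor G.hom := by
  intro x
  obtain ⟨_, ⟨V, hV, rfl⟩, hxV, -⟩ :=
    S.isBasis_affineOpens.exists_subset_of_mem_open (Set.mem_univ (G.hom x)) isOpen_univ
  obtain ⟨_, ⟨U, hU, rfl⟩, hxU, hUV⟩ :=
    G.left.isBasis_affineOpens.exists_subset_of_mem_open
      (show x ∈ (↑(G.hom ⁻¹ᵁ V) : Set G.left) from hxV) (G.hom ⁻¹ᵁ V).2
  refine ⟨⟨U, hU⟩, ⟨V, hV⟩, hUV, hxU, ?_⟩
  have hfl : (G.hom.appLE V U hUV).hom.Flat :=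
    HasRingHomProperty.appLE @Flat G.hom inferInstance ⟨V, hV⟩ ⟨U, hU⟩ hUV
  have hfp : (G.hom.appLE V U hUV).hom.FinitePresentation :=
    HasRingHomProperty.appLE @LocallyOfFinitePresentation G.hom inferInstance ⟨V, hV⟩ ⟨U, hU⟩ hUV
  let : Algebra Γ(S, V) Γ(G.left, U) := (G.hom.appLE V U hUV).hom.toAlgebra
  have hfp' : Algebra.FinitePresentation Γ(S, V) Γ(G.left, U) := hfp
  refine ⟨hfl, hfp', fun p => ?_⟩
  have : Algebra.FiniteType Γ(S, V) Γ(G.left, U) := inferInstance
  refine isLCIOver_fibre G (R := Γ(S, V)) (A := Γ(G.left, U)) hU.fromSpec hV.fromSpec ?_ p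
  exact (hV.SpecMap_appLE_fromSpec G.hom hU hUV).symm

end Groth.Agent.H63.Homog.Syntomic
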